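import Groth.Agent.RootData.Matsumoto

/-!
# The dihedral group of two simple roots
-/

set_option linter.unusedSectionVars false

namespace Groth.Agent.RootData

open Set Function Module RootD

variable {ι M N : Type*} [AddCommGroup M] [AddCommGroup N] {P : RootPairing ι ℤ M N} [Fintype ι] [P.IsReduced]
  {Δ : Set ι} (hΔ : Simple P Δ) {a c : ι}

include hΔ in
theorem Simple.pairing_cases (ha : a ∈ Δ) (hc : c ∈ Δ) (hne : a ≠ c) :
    (P.pairing a c = 0 ∧ P.pairing c a = 0) ∨ (P.pairing a c = -1 ∧ P.pairing c a = -1) ∨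
      (P.pairing a c = -1 ∧ P.pairing c a = -2) ∨ (P.pairing a c = -2 ∧ P.pairing c a = -1) ∨
      (P.pairing a c = -1 ∧ P.pairing c a = -3) ∨ (P.pairing a c = -3 ∧ P.pairing c a = -1) := by
  have hh : ∀ x y, P.pairingIn ℤ x y = P.pairing x y := fun x y => by simpa using P.algebraMap_pairingIn ℤ x y
  have h1 : P.root a ≠ P.root c := fun e => hne (P.root.injective e)
  have h2 : P.root a ≠ -P.root c := fun e => by
    have : a = P.reflectionPerm c c := P.root.injective (by rw [e, root_neg])
    exact hΔ.refl_self_notMem hc (this ▸ hΔ.subset_posOf ha)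
  have h := P.pairingIn_pairingIn_mem_set_of_isCrystal_of_isRed' a c h1 h2
  have o1 := hΔ.obtuse ha hc hne
  have o2 := hΔ.obtuse hc ha hne.symm
  simp only [nn] at o1 o2
  rw [hh] at o1 o2
  simp only [Set.mem_insert_iff, Set.mem_singleton_iff, Prod.mk.injEq, hh] at h
  omega

variable {A B : ℤ} (hA : P.pairing a c = A) (hB : P.pairing c a = B)

include hA hB in
theorem step_pair (m : M) (x y : ℤ) :
    (RootPairing.Equiv.reflection P a * RootPairing.Equiv.reflection P c) • (m + x • P.root a + y • P.root c) =
      m + (-x - B * (-y - A * x - P.coroot' c m) - P.coroot' a m) • P.root a +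
        (-y - A * x - P.coroot' c m) • P.root c := by
  rw [mul_smul, RootPairing.Equiv.reflection_smul, RootPairing.Equiv.reflection_smul]
  simp only [P.reflection_apply, map_add, map_zsmul, map_sub, P.root_coroot'_eq_pairing, hA, hB, P.pairing_same,
    smul_eq_mul]
  module

/-- One step of the action of the product of two reflections. -/
def pairStep (A B : ℤ) (μ ν : ℤ) : ℤ × ℤ → ℤ × ℤ := fun p =>
  (-p.1 - B * (-p.2 - A * p.1 - ν) - μ, -p.2 - A * p.1 - ν)

include hA hB in
theorem pow_pair (m : M) (x y : ℤ) (k : ℕ) :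
    ((RootPairing.Equiv.reflection P a * RootPairing.Equiv.reflection P c) ^ k) •
        (m + x • P.root a + y • P.root c) =
      m + ((pairStep A B (P.coroot' a m) (P.coroot' c m))^[k] (x, y)).1 • P.root a +
        ((pairStep A B (P.coroot' a m) (P.coroot' c m))^[k] (x, y)).2 • P.root c := by
  induction k with
  | zero => simp
  | succ k ih => rw [pow_succ', mul_smul, ih, step_pair hA hB, Function.iterate_succ_apply']; rfl

include hA hB in
theorem pow_pair_root (k : ℕ) :
    P.root (((RootPairing.Equiv.reflection P a * RootPairing.Equiv.reflection P c) ^ k) • a) =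
      ((pairStep A B 0 0)^[k] (1, 0)).1 • P.root a + ((pairStep A B 0 0)^[k] (1, 0)).2 • P.root c := by
  have h := pow_pair hA hB (0 : M) 1 0 k
  rw [map_zero, map_zero, one_smul, zero_smul, add_zero, zero_add, zero_add] at h
  rw [smul_root, h]

include hA hB in
theorem refl_pow_pair_root (k : ℕ) :
    P.root ((RootPairing.Equiv.reflection P c *
        (RootPairing.Equiv.reflection P a * RootPairing.Equiv.reflection P c) ^ k) • a) =
      ((pairStep A B 0 0)^[k] (1, 0)).1 • P.root a +
        (-((pairStep A B 0 0)^[k] (1, 0)).2 - A * ((pairStep A B 0 0)^[k] (1, 0)).1) • P.root c := by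
  rw [smul_root, mul_smul, ← smul_root, pow_pair_root hA hB, RootPairing.Equiv.reflection_smul, map_add, map_zsmul,
    map_zsmul, P.reflection_apply_self, P.reflection_apply_root, hA]
  module

variable (hli : ∀ i j : ℤ, i • P.root a + j • P.root c = 0 → i = 0 ∧ j = 0)

include hA hB hli in
/-- The order of the product of two simple reflections, and the elements sending a simple root to one of the two. -/
theorem pair_orders {n : ℕ} (hn : 0 < n)
    (hper : ∀ μ ν : ℤ, (pairStep A B μ ν)^[n] (0, 0) = (0, 0))
    (hmin : ∀ k < n, 0 < k → (pairStep A B 0 0)^[k] (1, 0) ≠ (1, 0)) :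
    orderOf (RootPairing.Equiv.reflection P a * RootPairing.Equiv.reflection P c) = n := by
  refine (orderOf_eq_iff hn).mpr ⟨aut_ext fun m => ?_, fun k hk hk0 h => hmin k hk hk0 ?_⟩
  · have h := pow_pair hA hB m 0 0 n
    simp only [hper, zero_smul, add_zero] at h
    rw [h, one_smul]
  · have h' := pow_pair_root hA hB (k := k)
    rw [h, one_smul] at h'
    obtain ⟨e1, e2⟩ := hli (((pairStep A B 0 0)^[k] (1, 0)).1 - 1) ((pairStep A B 0 0)^[k] (1, 0)).2 (by
      rw [sub_smul, one_smul, sub_add_eq_add_sub, ← h', sub_self])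
    exact Prod.ext (by show _ = (1 : ℤ); omega) e2

/-- Elements of the group of two reflections, in normal form. -/
theorem gen_pair_cases {n : ℕ} (hn : 0 < n)
    (hone : (RootPairing.Equiv.reflection P a * RootPairing.Equiv.reflection P c) ^ n = 1)
    {v : P.Aut} (hv : v ∈ gen P ({a, c} : Set ι)) :
    ∃ k < n, v = (RootPairing.Equiv.reflection P a * RootPairing.Equiv.reflection P c) ^ k ∨
      v = RootPairing.Equiv.reflection P c *
        (RootPairing.Equiv.reflection P a * RootPairing.Equiv.reflection P c) ^ k := by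
  set s := RootPairing.Equiv.reflection P a
  set t := RootPairing.Equiv.reflection P c
  have hs : s * s = 1 := refl_mul_self a
  have ht : t * t = 1 := refl_mul_self c
  obtain ⟨l, hl, rfl⟩ := exists_word hv
  clear hv
  induction l with
  | nil => exact ⟨0, hn, Or.inl (by simp [word])⟩
  | cons x l ih =>
    obtain ⟨k, hk, h⟩ := ih fun y hy => hl y (List.mem_cons_of_mem _ hy)
    rw [word_cons]
    have hmod : ∀ j, (s * t) ^ (j % n) = (s * t) ^ j := fun j => by
      conv_rhs => rw [← Nat.mod_add_div j n, pow_add, pow_mul, hone, one_pow, mul_one]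
    rcases hl x List.mem_cons_self with rfl | rfl <;> rcases h with h | h <;> rw [h]
    · refine ⟨(k + (n - 1)) % n, Nat.mod_lt _ hn, Or.inr ?_⟩
      rw [hmod, add_comm, pow_add]
      have : (s * t) ^ (n - 1) = t * s := by
        have e : (s * t) ^ (n - 1) * (s * t) = 1 := by rw [← pow_succ, Nat.sub_add_cancel hn, hone]
        rw [eq_inv_of_mul_eq_one_left e, mul_inv_rev, inv_eq_of_mul_eq_one_left hs, inv_eq_of_mul_eq_one_left ht]
      rw [this, ← mul_assoc t, ← mul_assoc t t, ht, one_mul]
    · refine ⟨(k + 1) % n, Nat.mod_lt _ hn, Or.inl ?_⟩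
      rw [hmod, pow_succ', mul_assoc]
    · exact ⟨k, hk, Or.inr rfl⟩
    · exact ⟨k, hk, Or.inl (by rw [← mul_assoc, ht, one_mul])⟩

variable (P) in
/-- The word of the elements preserving the pair of simple roots. -/
def pairWord (a c : ι) (A B : ℤ) : List ι :=
  if A * B = 0 then [c] else if A * B = 1 then [a, c] else if A * B = 2 then [c, a, c] else [c, a, c, a, c]

include hA hB hli in
/-- The only nontrivial element of the dihedral group carrying one simple root to one of the two. -/
theorem pair_stab {n : ℕ} (hn : 0 < n)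
    (hone : (RootPairing.Equiv.reflection P a * RootPairing.Equiv.reflection P c) ^ n = 1)
    {w : P.Aut} (hw : ∀ k < n,
      ((pairStep A B 0 0)^[k] (1, 0) ∈ ({(1, 0), (0, 1)} : Set (ℤ × ℤ)) →
        (RootPairing.Equiv.reflection P a * RootPairing.Equiv.reflection P c) ^ k = 1 ∨
          (RootPairing.Equiv.reflection P a * RootPairing.Equiv.reflection P c) ^ k = w) ∧
      ((((pairStep A B 0 0)^[k] (1, 0)).1,
          -((pairStep A B 0 0)^[k] (1, 0)).2 - A * ((pairStep A B 0 0)^[k] (1, 0)).1) ∈
          ({(1, 0), (0, 1)} : Set (ℤ × ℤ)) →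
        RootPairing.Equiv.reflection P c *
          (RootPairing.Equiv.reflection P a * RootPairing.Equiv.reflection P c) ^ k = w))
    {v : P.Aut} (hv : v ∈ gen P ({a, c} : Set ι)) (hva : v • a = a ∨ v • a = c) : v = 1 ∨ v = w := by
  obtain ⟨k, hk, h⟩ := gen_pair_cases hn hone hv
  have key : ∀ p q : ℤ, P.root (v • a) = p • P.root a + q • P.root c → (p, q) ∈ ({(1, 0), (0, 1)} : Set (ℤ × ℤ)) := by
    intro p q hpq
    rcases hva with e | e <;> rw [e] at hpq
    · obtain ⟨e1, e2⟩ := hli (p - 1) q (by rw [sub_smul, one_smul, sub_add_eq_add_sub, ← hpq, sub_self])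
      exact Or.inl (by rw [e2, show p = 1 by omega])
    · obtain ⟨e1, e2⟩ := hli p (q - 1) (by rw [sub_smul, one_smul, ← add_sub_assoc, ← hpq, sub_self])
      refine Or.inr ?_
      rw [Set.mem_singleton_iff, e1, show q = 1 by omega]
  rcases h with rfl | rfl
  · exact (hw k hk).1 (key _ _ (pow_pair_root hA hB k))
  · exact Or.inr ((hw k hk).2 (key _ _ (refl_pow_pair_root hA hB k)))

include hΔ hA hB in
/-- The elements of the dihedral group of two simple roots keeping the first one among them. -/
theorem Simple.eq_pairWord (ha : a ∈ Δ) (hc : c ∈ Δ) (hne : a ≠ c) {v : P.Aut}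
    (hv : v ∈ gen P ({a, c} : Set ι)) (hva : v • a = a ∨ v • a = c) :
    v = 1 ∨ v = word P (pairWord a c A B) := by
  classical
  have hli : ∀ i j : ℤ, i • P.root a + j • P.root c = 0 → i = 0 ∧ j = 0 := fun i j h => by
    have h0 := li_comb_eq_zero hΔ.li (c := Pi.single a i + Pi.single c j) (fun x hx => by
      simp [show x ≠ a from fun e => hx (e ▸ ha), show x ≠ c from fun e => hx (e ▸ hc)]) (by
      rw [comb_add, comb_single, comb_single, h])
    have h1 := congrFun h0 a
    have h2 := congrFun h0 c
    simp [hne, hne.symm] at h1 h2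
    exact ⟨h1, h2⟩
  have hcases : (A = 0 ∧ B = 0) ∨ (A = -1 ∧ B = -1) ∨ (A = -1 ∧ B = -2) ∨ (A = -2 ∧ B = -1) ∨ (A = -1 ∧ B = -3) ∨
      (A = -3 ∧ B = -1) := by
    have := hΔ.pairing_cases ha hc hne
    rw [hA, hB] at this
    exact this
  have hper : ∀ n : ℕ, 0 < n → (∀ μ ν : ℤ, (pairStep A B μ ν)^[n] (0, 0) = (0, 0)) →
      (RootPairing.Equiv.reflection P a * RootPairing.Equiv.reflection P c) ^ n = 1 := fun n _ h => aut_ext fun m => by
    have h' := pow_pair hA hB m 0 0 n
    simp only [h, zero_smul, add_zero] at h'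
    rw [h', one_smul]
  rcases hcases with ⟨rfl, rfl⟩ | ⟨rfl, rfl⟩ | ⟨rfl, rfl⟩ | ⟨rfl, rfl⟩ | ⟨rfl, rfl⟩ | ⟨rfl, rfl⟩
  · refine pair_stab hA hB hli (n := 2) (by omega) (hper 2 (by omega) fun μ ν => by
      simp [pairStep, Function.iterate_succ] <;> (try constructor) <;> ring) (fun k hk => ?_) hv hva
    interval_cases k <;> simp [pairStep, Function.iterate_succ, pairWord, word, pow_succ, mul_assoc]
  · refine pair_stab hA hB hli (n := 3) (by omega) (hper 3 (by omega) fun μ ν => by
      simp [pairStep, Function.iterate_succ] <;> (try constructor) <;> ring) (fun k hk => ?_) hv hva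
    interval_cases k <;> simp [pairStep, Function.iterate_succ, pairWord, word, pow_succ, mul_assoc]
  · refine pair_stab hA hB hli (n := 4) (by omega) (hper 4 (by omega) fun μ ν => by
      simp [pairStep, Function.iterate_succ] <;> (try constructor) <;> ring) (fun k hk => ?_) hv hva
    interval_cases k <;> simp [pairStep, Function.iterate_succ, pairWord, word, pow_succ, mul_assoc]
  · refine pair_stab hA hB hli (n := 4) (by omega) (hper 4 (by omega) fun μ ν => by
      simp [pairStep, Function.iterate_succ] <;> (try constructor) <;> ring) (fun k hk => ?_) hv hva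
    interval_cases k <;> simp [pairStep, Function.iterate_succ, pairWord, word, pow_succ, mul_assoc]
  · refine pair_stab hA hB hli (n := 6) (by omega) (hper 6 (by omega) fun μ ν => by
      simp [pairStep, Function.iterate_succ] <;> (try constructor) <;> ring) (fun k hk => ?_) hv hva
    interval_cases k <;> simp [pairStep, Function.iterate_succ, pairWord, word, pow_succ, mul_assoc]
  · refine pair_stab hA hB hli (n := 6) (by omega) (hper 6 (by omega) fun μ ν => by
      simp [pairStep, Function.iterate_succ] <;> (try constructor) <;> ring) (fun k hk => ?_) hv hva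
    interval_cases k <;> simp [pairStep, Function.iterate_succ, pairWord, word, pow_succ, mul_assoc]

include hΔ hA hB in
/-- The order of the product of two simple reflections. -/
theorem Simple.orderOf_pair (ha : a ∈ Δ) (hc : c ∈ Δ) (hne : a ≠ c) :
    orderOf (RootPairing.Equiv.reflection P a * RootPairing.Equiv.reflection P c) =
      if A * B = 0 then 2 else if A * B = 1 then 3 else if A * B = 2 then 4 else 6 := by
  classical
  have hli : ∀ i j : ℤ, i • P.root a + j • P.root c = 0 → i = 0 ∧ j = 0 := fun i j h => by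
    have h0 := li_comb_eq_zero hΔ.li (c := Pi.single a i + Pi.single c j) (fun x hx => by
      simp [show x ≠ a from fun e => hx (e ▸ ha), show x ≠ c from fun e => hx (e ▸ hc)]) (by
      rw [comb_add, comb_single, comb_single, h])
    have h1 := congrFun h0 a
    have h2 := congrFun h0 c
    simp [hne, hne.symm] at h1 h2
    exact ⟨h1, h2⟩
  have hcases : (A = 0 ∧ B = 0) ∨ (A = -1 ∧ B = -1) ∨ (A = -1 ∧ B = -2) ∨ (A = -2 ∧ B = -1) ∨ (A = -1 ∧ B = -3) ∨
      (A = -3 ∧ B = -1) := by
    have := hΔ.pairing_cases ha hc hne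
    rw [hA, hB] at this
    exact this
  rcases hcases with ⟨rfl, rfl⟩ | ⟨rfl, rfl⟩ | ⟨rfl, rfl⟩ | ⟨rfl, rfl⟩ | ⟨rfl, rfl⟩ | ⟨rfl, rfl⟩
  all_goals
    refine pair_orders hA hB hli (by norm_num) (fun μ ν => ?_) (fun k hk hk0 => ?_)
    · simp [pairStep, Function.iterate_succ] <;> (try constructor) <;> ring
    · norm_num at hk
      interval_cases k <;> simp [pairStep, Function.iterate_succ]

end Groth.Agent.RootData
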