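import Groth.Agent.RootData.Tits

/-!
# Reduced words and the braid relations of a Weyl group
-/

set_option linter.unusedSectionVars false

namespace Groth.Agent.RootData

open Set Function Module RootD

variable {ι R M N : Type*} [CommRing R] [IsDomain R] [CharZero R]
  [AddCommGroup M] [Module R M] [AddCommGroup N] [Module R N]
  {P : RootPairing ι R M N} [Fintype ι] [P.IsCrystallographic] [P.IsReduced] {Δ : Set ι} (hΔ : Simple P Δ)

variable (P Δ) in
/-- A word in the simple roots is reduced when it inverts as many positive roots as it has letters. -/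
def IsRed (l : List ι) : Prop := (∀ a ∈ l, a ∈ Δ) ∧ (inv' P Δ (word P l)).ncard = l.length

/-- The alternating word of given length in two letters, ending in the first one. -/
def alt (a c : ι) : ℕ → List ι
  | 0 => []
  | n + 1 => alt c a n ++ [a]

theorem length_alt : ∀ (a c : ι) (n : ℕ), (alt a c n).length = n
  | _, _, 0 => rfl
  | a, c, n + 1 => by simp [alt, length_alt c a n]

theorem mem_alt : ∀ (a c : ι) (n : ℕ), ∀ x ∈ alt a c n, x ∈ ({a, c} : Set ι)
  | _, _, 0, x, hx => by simp [alt] at hx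
  | a, c, n + 1, x, hx => by
    rcases List.mem_append.mp hx with h | h
    · exact (mem_alt c a n x h).symm
    · exact Or.inl (List.mem_singleton.mp h)

theorem word_snoc (l : List ι) (a : ι) :
    word P (l ++ [a]) = word P l * RootPairing.Equiv.reflection P a := by simp [word]

theorem mul_refl_refl (g : P.Aut) (a : ι) :
    g * RootPairing.Equiv.reflection P a * RootPairing.Equiv.reflection P a = g := by
  rw [mul_assoc, refl_mul_self, mul_one]

theorem mem_weyl_mul_refl {g : P.Aut} (hg : g ∈ P.weylGroup) (a : ι) :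
    g * RootPairing.Equiv.reflection P a ∈ P.weylGroup := mul_mem hg (P.reflection_mem_weylGroup a)

include hΔ in
theorem Simple.inv_mul_refl {g : P.Aut} {a : ι} (ha : a ∈ Δ) (hneg : g • a ∉ posOf P Δ) :
    inv' P Δ g = insert a (P.reflectionPerm a '' inv' P Δ (g * RootPairing.Equiv.reflection P a)) := by
  have hs : ∀ j, (g * RootPairing.Equiv.reflection P a) • j = g • P.reflectionPerm a j := fun j => by
    rw [mul_smul, refl_smul_idx]
  ext k
  simp only [inv', Set.mem_ofPred_eq, Set.mem_insert_iff, Set.mem_image, hs]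
  constructor
  · rintro ⟨hk, hk'⟩
    by_cases hka : k = a
    · exact .inl hka
    refine .inr ⟨P.reflectionPerm a k, ⟨(hΔ.refl_pos_ne isIndiv_of_reduced ha hk hka).1, ?_⟩,
      P.reflectionPerm_self a k⟩
    rwa [P.reflectionPerm_self]
  · rintro (rfl | ⟨j, ⟨hj, hj'⟩, rfl⟩)
    · exact ⟨hΔ.subset_posOf ha, hneg⟩
    · have hja : j ≠ a := by
        rintro rfl
        rw [smul_neg_idx, hΔ.neg_mem_posOf_iff, not_not] at hj'
        exact hneg hj'
      exact ⟨(hΔ.refl_pos_ne isIndiv_of_reduced ha hj hja).1, hj'⟩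

include hΔ in
theorem Simple.ncard_inv_mul_refl {g : P.Aut} {a : ι} (ha : a ∈ Δ) (hneg : g • a ∉ posOf P Δ) :
    (inv' P Δ g).ncard = (inv' P Δ (g * RootPairing.Equiv.reflection P a)).ncard + 1 := by
  have hnot : a ∉ P.reflectionPerm a '' inv' P Δ (g * RootPairing.Equiv.reflection P a) := by
    rintro ⟨j, ⟨hj, -⟩, hja⟩
    have : j = P.reflectionPerm a a := by rw [← P.reflectionPerm_self a j, hja]
    exact hΔ.refl_self_notMem ha (this ▸ hj)
  rw [hΔ.inv_mul_refl ha hneg, Set.ncard_insert_of_notMem hnot (Set.toFinite _),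
    Set.ncard_image_of_injective _ (P.reflectionPerm a).injective]

include hΔ in
theorem Simple.ncard_inv_le_succ (g : P.Aut) {a : ι} (ha : a ∈ Δ) :
    (inv' P Δ (g * RootPairing.Equiv.reflection P a)).ncard ≤ (inv' P Δ g).ncard + 1 := by
  by_cases h : g • a ∈ posOf P Δ
  · have h2 := hΔ.ncard_inv_mul_refl (g := g * RootPairing.Equiv.reflection P a) ha (by
      rwa [mul_smul, refl_smul_idx, smul_neg_idx, hΔ.neg_mem_posOf_iff, not_not])
    rw [mul_refl_refl] at h2
    omega
  · have := hΔ.ncard_inv_mul_refl ha h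
    omega

include hΔ in
theorem Simple.ncard_word_le_aux : ∀ (l : List ι), (∀ x ∈ l, x ∈ Δ) → ∀ g : P.Aut,
    (inv' P Δ (g * word P l)).ncard ≤ (inv' P Δ g).ncard + l.length := by
  intro l
  induction l with
  | nil => intro _ g; simp [word]
  | cons a t ih =>
    intro hl g
    have := ih (fun x hx => hl x (List.mem_cons_of_mem _ hx)) (g * RootPairing.Equiv.reflection P a)
    have := hΔ.ncard_inv_le_succ g (hl a List.mem_cons_self)
    rw [word_cons, ← mul_assoc, List.length_cons]
    omega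

include hΔ in
theorem Simple.ncard_word_le {l : List ι} (hl : ∀ x ∈ l, x ∈ Δ) : (inv' P Δ (word P l)).ncard ≤ l.length := by
  have h := hΔ.ncard_word_le_aux l hl 1
  have h0 : inv' P Δ (1 : P.Aut) = ∅ := by
    ext k; simp [inv']
  rw [one_mul, h0] at h
  simpa using h

include hΔ in
theorem Simple.isRed_nil : IsRed P Δ [] := ⟨by simp, by simp [inv', word]⟩

include hΔ in
theorem Simple.isRed_of_append {l l' : List ι} (h : IsRed P Δ (l ++ l')) : IsRed P Δ l := by
  refine ⟨fun x hx => h.1 x (List.mem_append_left _ hx), ?_⟩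
  have h1 := hΔ.ncard_word_le_aux l' (fun x hx => h.1 x (List.mem_append_right _ hx)) (word P l)
  have h2 := hΔ.ncard_word_le (l := l) fun x hx => h.1 x (List.mem_append_left _ hx)
  have h3 := h.2
  rw [word_append, List.length_append] at h3
  omega

include hΔ in
theorem Simple.isRed_last {l : List ι} {a : ι} (h : IsRed P Δ (l ++ [a])) :
    word P (l ++ [a]) • a ∉ posOf P Δ := by
  intro hpos
  have ha : a ∈ Δ := h.1 a (by simp)
  have h1 := hΔ.ncard_inv_mul_refl (g := word P l) ha (by
    rw [word_snoc, mul_smul, refl_smul_idx, smul_neg_idx] at hpos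
    exact hΔ.neg_mem_posOf_iff.mp hpos)
  have h2 := (hΔ.isRed_of_append h).2
  have h3 := h.2
  rw [word_snoc, List.length_append, List.length_singleton] at h3
  omega

include hΔ in
theorem Simple.isRed_snoc {g : P.Aut} {a : ι} (ha : a ∈ Δ) (hneg : g • a ∉ posOf P Δ) {l : List ι}
    (hl : IsRed P Δ l) (hlg : word P l = g * RootPairing.Equiv.reflection P a) :
    IsRed P Δ (l ++ [a]) ∧ word P (l ++ [a]) = g := by
  have e : word P (l ++ [a]) = g := by rw [word_snoc, hlg, mul_refl_refl]
  refine ⟨⟨fun x hx => ?_, ?_⟩, e⟩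
  · rcases List.mem_append.mp hx with h | h
    · exact hl.1 x h
    · exact List.mem_singleton.mp h ▸ ha
  · rw [e, hΔ.ncard_inv_mul_refl ha hneg, ← hlg, hl.2, List.length_append, List.length_singleton]

include hΔ in
theorem Simple.exists_isRed {g : P.Aut} (hg : g ∈ P.weylGroup) :
    ∃ l, IsRed P Δ l ∧ word P l = g := by
  induction hn : (inv' P Δ g).ncard using Nat.strong_induction_on generalizing g with
  | _ n IH =>
    by_cases hpos : ∀ i ∈ Δ, g • i ∈ posOf P Δ
    · exact ⟨[], hΔ.isRed_nil, (hΔ.eq_one_of_pos hg hpos).symm⟩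
    push Not at hpos
    obtain ⟨a, ha, hneg⟩ := hpos
    have hk := hΔ.ncard_inv_mul_refl ha hneg
    obtain ⟨l, hl, hlg⟩ := IH _ (by omega) (mem_weyl_mul_refl hg a) rfl
    exact ⟨_, hΔ.isRed_snoc ha hneg hl hlg⟩

section Plane

variable {a c : ι} (ha : a ∈ Δ) (hc : c ∈ Δ) (hac : a ≠ c)

include hΔ ha hc in
/-- The action on a root in the span of two simple roots. -/
theorem Simple.smul_pos_of_plane (hac : a ≠ c) {u : P.Aut} {k : ι} (hk : ∀ x, x ∉ ({a, c} : Set ι) → hΔ.co k x = 0)
    (hua : u • a ∈ posOf P Δ) (huc : u • c ∈ posOf P Δ) (hkp : k ∈ posOf P Δ) : u • k ∈ posOf P Δ := by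
  classical
  have hco : hΔ.co k = hΔ.co k a • hΔ.co a + hΔ.co k c • hΔ.co c := by
    funext x
    rw [hΔ.co_simple ha, hΔ.co_simple hc]
    by_cases hxa : x = a
    · subst hxa; simp [hac]
    by_cases hxc : x = c
    · subst hxc; simp [hxa]
    simp [hxa, hxc, hk x (by simp [hxa, hxc])]
  have hroot : P.root k = hΔ.co k a • P.root a + hΔ.co k c • P.root c := by
    rw [← hΔ.co_spec k, hco, comb_add, comb_smul, comb_smul, hΔ.co_spec, hΔ.co_spec]
    simp [hΔ.co_simple ha, hΔ.co_simple hc, hac, hac.symm]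
  have hco' : hΔ.co (u • k) = hΔ.co k a • hΔ.co (u • a) + hΔ.co k c • hΔ.co (u • c) :=
    hΔ.co_unique (fun x hx => by simp [hΔ.co_supp hx]) (by
      rw [comb_add, comb_smul, comb_smul, hΔ.co_spec, hΔ.co_spec, smul_root, smul_root, smul_root, hroot,
        smul_add, smul_comm (hΔ.co k a) u, smul_comm (hΔ.co k c) u])
  refine hΔ.mem_posOf_iff.mpr fun x => ?_
  rw [hco']
  exact add_nonneg (mul_nonneg (hΔ.mem_posOf_iff.mp hkp a) (hΔ.mem_posOf_iff.mp hua x))
    (mul_nonneg (hΔ.mem_posOf_iff.mp hkp c) (hΔ.mem_posOf_iff.mp huc x))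

include hΔ in
theorem Simple.co_gen_off {Δ' : Set ι} (hsub : Δ' ⊆ Δ) (k : ι) {v : P.Aut} (hv : v ∈ gen P Δ') :
    ∀ x, x ∉ Δ' → hΔ.co (v • k) x = hΔ.co k x := by
  classical
  obtain ⟨l, hl, rfl⟩ := exists_word hv
  clear hv
  induction l with
  | nil => simp [word]
  | cons b t ih =>
    intro x hx
    rw [word_cons, mul_smul, refl_smul_idx]
    have h := hΔ.co_smul_refl 1 b (word P t • k)
    rw [one_smul, one_smul, one_smul] at h
    have hb : b ∈ Δ' := hl b List.mem_cons_self
    rw [h, Pi.sub_apply, Pi.smul_apply, ih (fun y hy => hl y (List.mem_cons_of_mem _ hy)) x hx,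
      hΔ.co_simple (hsub hb), Pi.single_eq_of_ne (fun e => hx (by rwa [e])), smul_zero, sub_zero]

include hΔ ha hc in
theorem Simple.eq_one_of_plane_pos {v : P.Aut} (hv : v ∈ gen P ({a, c} : Set ι)) (hva : v • a ∈ posOf P Δ)
    (hvc : v • c ∈ posOf P Δ) : v = 1 := by
  classical
  have hsub : ({a, c} : Set ι) ⊆ Δ := by rintro x (rfl | rfl); exacts [ha, hc]
  refine hΔ.eq_one_of_pos (gen_le _ hv) fun i hi => ?_
  by_cases hia : i = a
  · exact hia ▸ hva
  by_cases hic : i = c
  · exact hic ▸ hvc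
  refine hΔ.mem_posOf_iff'.mpr ⟨i, ?_⟩
  rw [hΔ.co_gen_off hsub i hv i (by simp [hia, hic]), hΔ.co_simple hi]
  simp

include hΔ ha hc in
/-- An element of the subgroup of two simple roots inverting the first is an alternating word. -/
theorem Simple.exists_alt : ∀ (n : ℕ) (v : P.Aut), v ∈ gen P ({a, c} : Set ι) → (inv' P Δ v).ncard = n →
    (v • a ∉ posOf P Δ → word P (alt a c n) = v ∧ IsRed P Δ (alt a c n)) ∧
    (v • c ∉ posOf P Δ → word P (alt c a n) = v ∧ IsRed P Δ (alt c a n)) := by
  intro n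
  induction n using Nat.strong_induction_on with
  | _ n IH =>
    intro v hv hn
    have key : ∀ x y : ι, x ∈ Δ → ({x, y} : Set ι) = {a, c} →
        ((∀ k < n, ∀ v', v' ∈ gen P ({a, c} : Set ι) → (inv' P Δ v').ncard = k → v' • y ∉ posOf P Δ →
          word P (alt y x k) = v' ∧ IsRed P Δ (alt y x k))) →
        v • x ∉ posOf P Δ → word P (alt x y n) = v ∧ IsRed P Δ (alt x y n) := by
      intro x y hx hxy hrec hneg
      obtain ⟨m, rfl⟩ : ∃ m, n = m + 1 := ⟨n - 1, by
        have := hΔ.ncard_inv_mul_refl hx hneg; omega⟩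
      have hk := hΔ.ncard_inv_mul_refl hx hneg
      have hm : (inv' P Δ (v * RootPairing.Equiv.reflection P x)).ncard = m := by omega
      have hxm : x ∈ ({a, c} : Set ι) := hxy ▸ Or.inl rfl
      have hv' : v * RootPairing.Equiv.reflection P x ∈ gen P ({a, c} : Set ι) := mul_mem hv (refl_mem_gen hxm)
      have hpre : word P (alt y x m) = v * RootPairing.Equiv.reflection P x ∧ IsRed P Δ (alt y x m) := by
        by_cases hy : (v * RootPairing.Equiv.reflection P x) • y ∈ posOf P Δ
        · have hxp : (v * RootPairing.Equiv.reflection P x) • x ∈ posOf P Δ := by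
            rw [mul_smul, refl_smul_idx, smul_neg_idx, hΔ.neg_mem_posOf_iff]; exact hneg
          have h1 : v * RootPairing.Equiv.reflection P x = 1 := by
            refine hΔ.eq_one_of_plane_pos ha hc hv' ?_ ?_
            · rcases (hxy ▸ Or.inl rfl : a ∈ ({x, y} : Set ι)) with h | h <;> rw [h] <;> assumption
            · rcases (hxy ▸ Or.inr rfl : c ∈ ({x, y} : Set ι)) with h | h <;> rw [h] <;> assumption
          have h0 : m = 0 := by rw [← hm, h1]; simp [inv']
          subst h0
          exact ⟨h1.symm, hΔ.isRed_nil⟩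
        · exact hrec m (by omega) _ hv' hm hy
      exact (hΔ.isRed_snoc (g := v) hx hneg hpre.2 hpre.1).symm
    exact ⟨key a c ha rfl fun k hk v' h1 h2 h3 => (IH k hk v' h1 h2).2 h3,
      key c a hc (Set.pair_comm c a) fun k hk v' h1 h2 h3 => (IH k hk v' h1 h2).1 h3⟩

include hΔ ha hc in
/-- Splitting off the part of an element lying in the subgroup of two simple roots. -/
theorem Simple.exists_plane_split : ∀ (n : ℕ) (g : P.Aut), g ∈ P.weylGroup → (inv' P Δ g).ncard = n →
    ∃ lu lv : List ι, IsRed P Δ (lu ++ lv) ∧ word P (lu ++ lv) = g ∧ (∀ x ∈ lv, x ∈ ({a, c} : Set ι)) ∧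
      word P lu • a ∈ posOf P Δ ∧ word P lu • c ∈ posOf P Δ := by
  intro n
  induction n using Nat.strong_induction_on with
  | _ n IH =>
    intro g hg hn
    by_cases h : g • a ∈ posOf P Δ ∧ g • c ∈ posOf P Δ
    · obtain ⟨l, hl, rfl⟩ := hΔ.exists_isRed hg
      exact ⟨l, [], by simpa using hl, by simp, by simp, h.1, h.2⟩
    obtain ⟨x, hx, hxΔ, hneg⟩ : ∃ x ∈ ({a, c} : Set ι), x ∈ Δ ∧ g • x ∉ posOf P Δ := by
      rcases not_and_or.mp h with h | h
      exacts [⟨a, Or.inl rfl, ha, h⟩, ⟨c, Or.inr rfl, hc, h⟩]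
    have hk := hΔ.ncard_inv_mul_refl hxΔ hneg
    obtain ⟨lu, lv, h1, h2, h3, h4, h5⟩ := IH _ (by omega) _ (mem_weyl_mul_refl hg x) rfl
    obtain ⟨r1, r2⟩ := hΔ.isRed_snoc hxΔ hneg h1 h2
    refine ⟨lu, lv ++ [x], by rwa [← List.append_assoc], by rwa [← List.append_assoc], fun y hy => ?_, h4, h5⟩
    rcases List.mem_append.mp hy with hy | hy
    exacts [h3 y hy, List.mem_singleton.mp hy ▸ hx]

include hΔ ha hc hac in
/-- An element inverting two simple roots has reduced words ending in both alternating longest words. -/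
theorem Simple.exists_braid_words {g : P.Aut} (hg : g ∈ P.weylGroup) (hga : g • a ∉ posOf P Δ)
    (hgc : g • c ∉ posOf P Δ) : ∃ (lu : List ι) (n : ℕ), IsRed P Δ (lu ++ alt a c (n + 1)) ∧
      IsRed P Δ (lu ++ alt c a (n + 1)) ∧ word P (lu ++ alt a c (n + 1)) = g ∧
      word P (lu ++ alt c a (n + 1)) = g ∧ IsRed P Δ (alt a c (n + 1)) ∧
      word P (alt a c (n + 1)) = word P (alt c a (n + 1)) := by
  classical
  obtain ⟨lu, lv, h1, h2, h3, h4, h5⟩ := hΔ.exists_plane_split ha hc _ g hg rfl
  have hsub : ({a, c} : Set ι) ⊆ Δ := by rintro x (rfl | rfl); exacts [ha, hc]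
  have hvm : word P lv ∈ gen P ({a, c} : Set ι) := word_mem_gen h3
  have hneg : ∀ x ∈ ({a, c} : Set ι), word P lv • x ∉ posOf P Δ := by
    intro x hx hp
    have hsupp : ∀ y, y ∉ ({a, c} : Set ι) → hΔ.co (word P lv • x) y = 0 := fun y hy => by
      rw [hΔ.co_gen_off hsub x hvm y hy, hΔ.co_simple (hsub hx), Pi.single_eq_of_ne (fun e => hy (by rwa [e]))]
    have h := hΔ.smul_pos_of_plane ha hc hac hsupp h4 h5 hp
    rw [← mul_smul, ← word_append, h2] at h
    rcases hx with rfl | rfl
    exacts [hga h, hgc h]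
  have hlen : (inv' P Δ (word P lv)).ncard = lv.length := by
    have h0 := h1.2
    rw [word_append, List.length_append] at h0
    have h6 := hΔ.ncard_word_le (l := lv) fun x hx => hsub (h3 x hx)
    obtain ⟨h7, h8⟩ := (hΔ.exists_alt ha hc _ (word P lv) hvm rfl).1 (hneg a (Or.inl rfl))
    have h9 := hΔ.ncard_word_le_aux _ h8.1 (word P lu)
    rw [h7, length_alt] at h9
    have h10 := hΔ.ncard_word_le (l := lu) fun x hx => h1.1 x (List.mem_append_left _ hx)
    omega
  obtain ⟨m, hm⟩ : ∃ m, lv.length = m + 1 := ⟨lv.length - 1, by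
    have := hΔ.ncard_inv_mul_refl ha (hneg a (Or.inl rfl)); omega⟩
  obtain ⟨wa, ra⟩ := (hΔ.exists_alt ha hc _ (word P lv) hvm (hlen.trans hm)).1 (hneg a (Or.inl rfl))
  obtain ⟨wc, rc⟩ := (hΔ.exists_alt ha hc _ (word P lv) hvm (hlen.trans hm)).2 (hneg c (Or.inr rfl))
  have hgood : ∀ l', word P l' = word P lv → (∀ x ∈ l', x ∈ Δ) → l'.length = m + 1 →
      IsRed P Δ (lu ++ l') ∧ word P (lu ++ l') = g := fun l' hw hl' hlen' => by
    have e : word P (lu ++ l') = g := by rw [word_append, hw, ← word_append, h2]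
    refine ⟨⟨fun x hx => ?_, ?_⟩, e⟩
    · rcases List.mem_append.mp hx with h | h
      exacts [h1.1 x (List.mem_append_left _ h), hl' x h]
    · rw [e, ← h2, h1.2, List.length_append, List.length_append, hlen', hm]
  obtain ⟨A1, A2⟩ := hgood _ wa ra.1 (length_alt _ _ _)
  obtain ⟨C1, C2⟩ := hgood _ wc rc.1 (length_alt _ _ _)
  exact ⟨lu, m, A1, C1, A2, C2, ra, wa.trans wc.symm⟩

end Plane

section Product

variable {H : Type*} [Monoid H] (f : ι → H)
  (hbraid : ∀ a ∈ Δ, ∀ c ∈ Δ, a ≠ c → ∀ n, IsRed P Δ (alt a c n) → word P (alt a c n) = word P (alt c a n) →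
    ((alt a c n).map f).prod = ((alt c a n).map f).prod)

include hΔ hbraid in
/-- Reduced words of one element have equal products for families satisfying the braid relations. -/
theorem Simple.matsumoto : ∀ (n : ℕ) (l₁ l₂ : List ι), l₁.length = n → IsRed P Δ l₁ → IsRed P Δ l₂ →
    word P l₁ = word P l₂ → (l₁.map f).prod = (l₂.map f).prod := by
  intro n
  induction n using Nat.strong_induction_on with
  | _ n IH =>
    intro l₁ l₂ hn h₁ h₂ hw
    have hlen : l₁.length = l₂.length := by rw [← h₁.2, ← h₂.2, hw]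
    rcases List.eq_nil_or_concat' l₁ with rfl | ⟨t₁, a, rfl⟩
    · rw [List.length_nil] at hlen
      rw [List.length_eq_zero_iff.mp hlen.symm]
    rcases List.eq_nil_or_concat' l₂ with rfl | ⟨t₂, c, rfl⟩
    · simp at hlen
    have hlt : t₁.length < n := by rw [← hn, List.length_append]; simp
    have hlen' : t₂.length = t₁.length := by simp at hlen; omega
    have step : ∀ (t t' : List ι) (x : ι), t.length = t₁.length → IsRed P Δ (t ++ [x]) →
        IsRed P Δ (t' ++ [x]) → word P (t ++ [x]) = word P (t' ++ [x]) →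
        ((t ++ [x]).map f).prod = ((t' ++ [x]).map f).prod := by
      intro t t' x ht r r' e
      rw [word_snoc, word_snoc] at e
      have := IH _ hlt t t' ht (hΔ.isRed_of_append r) (hΔ.isRed_of_append r') (mul_right_cancel e)
      simp [this]
    by_cases hac : a = c
    · subst hac
      exact step t₁ t₂ a rfl h₁ h₂ hw
    have ha : a ∈ Δ := h₁.1 a (by simp)
    have hc : c ∈ Δ := h₂.1 c (by simp)
    obtain ⟨lu, m, A1, C1, A2, C2, ra, hb⟩ := hΔ.exists_braid_words ha hc hac
      (word_mem_weylGroup (t₁ ++ [a])) (hΔ.isRed_last h₁) (hw ▸ hΔ.isRed_last h₂)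
    have eA : lu ++ alt a c (m + 1) = (lu ++ alt c a m) ++ [a] := by simp [alt]
    have eC : lu ++ alt c a (m + 1) = (lu ++ alt a c m) ++ [c] := by simp [alt]
    have s1 := step t₁ _ a rfl h₁ (eA ▸ A1) (by rw [← eA, A2])
    have s2 := step t₂ _ c hlen' h₂ (eC ▸ C1) (by rw [← eC, C2, hw])
    rw [s1, s2, ← eA, ← eC, List.map_append, List.map_append, List.prod_append, List.prod_append,
      hbraid a ha c hc hac _ ra hb]

include hΔ hbraid in
/-- Products are well defined on the Weyl group for families of involutions satisfying the braid relations. -/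
theorem Simple.prod_eq_of_word_eq (hinv : ∀ a ∈ Δ, f a * f a = 1) {l l' : List ι} (hl : ∀ a ∈ l, a ∈ Δ)
    (hl' : ∀ a ∈ l', a ∈ Δ) (hw : word P l = word P l') : (l.map f).prod = (l'.map f).prod := by
  have key : ∀ l : List ι, (∀ a ∈ l, a ∈ Δ) → ∀ r, IsRed P Δ r → word P r = word P l →
      (l.map f).prod = (r.map f).prod := by
    intro l
    induction l using List.reverseRecOn with
    | nil =>
      intro _ r hr hrw
      exact hΔ.matsumoto f hbraid _ [] r rfl hΔ.isRed_nil hr hrw.symm
    | append_singleton t a ih =>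
      intro hl r hr hrw
      have ha : a ∈ Δ := hl a (by simp)
      have ht : ∀ x ∈ t, x ∈ Δ := fun x hx => hl x (List.mem_append_left _ hx)
      obtain ⟨q, hq, hqw⟩ := hΔ.exists_isRed (word_mem_weylGroup (P := P) t)
      rw [List.map_append, List.prod_append, ih ht q hq hqw]
      by_cases hpos : word P t • a ∈ posOf P Δ
      · obtain ⟨h1, h2⟩ := hΔ.isRed_snoc (g := word P (t ++ [a])) ha (by
          rwa [word_snoc, mul_smul, refl_smul_idx, smul_neg_idx, hΔ.neg_mem_posOf_iff, not_not]) hq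
          (by rw [word_snoc, mul_refl_refl, hqw])
        rw [← List.prod_append, ← List.map_append]
        exact hΔ.matsumoto f hbraid _ _ r rfl h1 hr (h2.trans hrw.symm)
      · obtain ⟨q', hq', hq'w⟩ := hΔ.exists_isRed (word_mem_weylGroup (P := P) (t ++ [a]))
        obtain ⟨h1, h2⟩ := hΔ.isRed_snoc (g := word P t) ha hpos hq' (by rw [hq'w, word_snoc])
        rw [hΔ.matsumoto f hbraid _ q _ rfl hq h1 (hqw.trans h2.symm), List.map_append, List.prod_append,
          mul_assoc, List.map_singleton, List.prod_singleton, hinv a ha, mul_one,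
          hΔ.matsumoto f hbraid _ r q' rfl hr hq' (hrw.trans hq'w.symm)]
  obtain ⟨r, hr, hrw⟩ := hΔ.exists_isRed (word_mem_weylGroup (P := P) l)
  rw [key l hl r hr hrw, key l' hl' r hr (hrw.trans hw)]

end Product

section Involutions

theorem prod_alt {H : Type*} [Monoid H] (f : ι → H) (a c : ι) (k : ℕ) :
    ((alt a c (2 * k)).map f).prod = (f c * f a) ^ k ∧
      ((alt a c (2 * k + 1)).map f).prod = (f a * f c) ^ k * f a := by
  induction k generalizing a c with
  | zero => simp [alt]
  | succ k ih =>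
    have h1 : ((alt a c (2 * (k + 1))).map f).prod = (f c * f a) ^ (k + 1) := by
      show ((alt c a (2 * k + 1) ++ [a]).map f).prod = _
      rw [List.map_append, List.prod_append, (ih c a).2, pow_succ]
      simp [mul_assoc]
    refine ⟨h1, ?_⟩
    show ((alt c a (2 * (k + 1)) ++ [a]).map f).prod = _
    have h2 : ((alt c a (2 * (k + 1))).map f).prod = (f a * f c) ^ (k + 1) := by
      show ((alt a c (2 * k + 1) ++ [c]).map f).prod = _
      rw [List.map_append, List.prod_append, (ih a c).2, pow_succ]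
      simp [mul_assoc]
    rw [List.map_append, List.prod_append, h2]
    simp

/-- The alternating products of two involutions agree exactly when a power of their product is trivial. -/
theorem prod_alt_eq_iff {H : Type*} [Group H] (f : ι → H) {a c : ι} (ha : f a * f a = 1) (hc : f c * f c = 1)
    (n : ℕ) : ((alt a c n).map f).prod = ((alt c a n).map f).prod ↔ (f a * f c) ^ n = 1 := by
  have hi : (f a * f c)⁻¹ = f c * f a := by
    rw [mul_inv_rev, inv_eq_of_mul_eq_one_left ha, inv_eq_of_mul_eq_one_left hc]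
  obtain ⟨k, rfl | rfl⟩ : ∃ k, n = 2 * k ∨ n = 2 * k + 1 := ⟨n / 2, by omega⟩
  · rw [(prod_alt f a c k).1, (prod_alt f c a k).1, ← hi, inv_pow, inv_eq_iff_mul_eq_one, ← pow_add, two_mul]
  · rw [(prod_alt f a c k).2, (prod_alt f c a k).2, ← hi, inv_pow, eq_inv_mul_iff_mul_eq]
    have hc' : (f c)⁻¹ = f c := inv_eq_of_mul_eq_one_left hc
    constructor
    · intro h
      calc (f a * f c) ^ (2 * k + 1) = (f a * f c) ^ k * ((f a * f c) ^ k * f a) * f c := by
            rw [two_mul, pow_succ, pow_add]; simp [mul_assoc]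
        _ = 1 := by rw [h, hc]
    · intro h
      calc (f a * f c) ^ k * ((f a * f c) ^ k * f a) = (f a * f c) ^ (2 * k + 1) * (f c)⁻¹ := by
            rw [two_mul, pow_succ, pow_add]; simp [mul_assoc]
        _ = f c := by rw [h, one_mul, hc']

variable {a c : ι}

include hΔ in
/-- The length of a braid relation is the order of the product of the reflections. -/
theorem Simple.orderOf_eq_of_braid {n : ℕ} (hr : IsRed P Δ (alt a c n))
    (hw : word P (alt a c n) = word P (alt c a n)) :
    (RootPairing.Equiv.reflection P a * RootPairing.Equiv.reflection P c) ^ n = 1 ∧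
    ∀ k, 0 < k → k < n → (RootPairing.Equiv.reflection P a * RootPairing.Equiv.reflection P c) ^ k ≠ 1 := by
  let s : ι → P.Aut := fun x => RootPairing.Equiv.reflection P x
  refine ⟨(prod_alt_eq_iff s (refl_mul_self a) (refl_mul_self c) n).mp hw, fun k hk hkn hone => ?_⟩
  have hsplit : ∀ (x y : ι) (j : ℕ) (i : ℕ), ∃ p : List ι, alt x y (i + j) = p ++ alt x y j ∧ p.length = i := by
    intro x y j
    induction j generalizing x y with
    | zero => exact fun i => ⟨alt x y i, by simp [alt], length_alt _ _ _⟩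
    | succ j ih =>
      intro i
      obtain ⟨p, hp, hpl⟩ := ih y x i
      exact ⟨p, by rw [← add_assoc]; simp [alt, hp], hpl⟩
  obtain ⟨i, hi⟩ : ∃ i, n = i + (k + 1) := ⟨n - (k + 1), by omega⟩
  obtain ⟨p, hp, hpl⟩ := hsplit a c (k + 1) i
  obtain ⟨j, rfl⟩ : ∃ j, k = j + 1 := ⟨k - 1, by omega⟩
  rw [← hi] at hp
  have hk2 : word P (alt c a (j + 1)) = word P (alt a c (j + 1)) :=
    ((prod_alt_eq_iff s (refl_mul_self a) (refl_mul_self c) _).mpr hone).symm
  have e : word P (alt a c (j + 1 + 1)) = word P (alt c a j) := by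
    show word P (alt c a (j + 1) ++ [a]) = _
    rw [word_snoc, hk2]
    show word P (alt c a j ++ [a]) * _ = _
    rw [word_snoc, mul_refl_refl]
  have hmem : ∀ x ∈ p ++ alt c a j, x ∈ Δ := fun x hx => by
    rcases List.mem_append.mp hx with h | h
    · exact hr.1 x (hp ▸ List.mem_append_left _ h)
    · refine hr.1 x (hp ▸ List.mem_append_right _ ?_)
      rcases mem_alt c a j x h with rfl | rfl <;> simp [alt]
  have h1 := hΔ.ncard_word_le hmem
  have h2 := hr.2
  rw [hp, word_append, e, ← word_append, List.length_append, hpl, length_alt] at h2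
  rw [List.length_append, hpl, length_alt] at h1
  omega

include hΔ in
/-- Products are well defined on the Weyl group for involutions satisfying the Coxeter relations. -/
theorem Simple.prod_eq_of_coxeter {H : Type*} [Group H] (f : ι → H) (hinv : ∀ a ∈ Δ, f a * f a = 1)
    (hrel : ∀ a ∈ Δ, ∀ c ∈ Δ, a ≠ c →
      (f a * f c) ^ orderOf (RootPairing.Equiv.reflection P a * RootPairing.Equiv.reflection P c) = 1)
    {l l' : List ι} (hl : ∀ a ∈ l, a ∈ Δ) (hl' : ∀ a ∈ l', a ∈ Δ) (hw : word P l = word P l') :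
    (l.map f).prod = (l'.map f).prod := by
  refine hΔ.prod_eq_of_word_eq f (fun a ha c hc hac n hr hn => ?_) hinv hl hl' hw
  rcases Nat.eq_zero_or_pos n with rfl | hn0
  · simp [alt]
  obtain ⟨h1, h2⟩ := hΔ.orderOf_eq_of_braid hr hn
  rw [prod_alt_eq_iff f (hinv a ha) (hinv c hc), ← (orderOf_eq_iff hn0).mpr ⟨h1, fun k hk hk0 => h2 k hk0 hk⟩]
  exact hrel a ha c hc hac

end Involutions

end Groth.Agent.RootData
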