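import Groth.Agent.RootData.Parabolic
import Groth.Agent.RootData.Inversions

/-!
# Decomposition of a Weyl group element carrying a simple root to a simple root
-/

set_option linter.unusedSectionVars false

namespace Groth.Agent.RootData

open Set Function Module RootD

variable {ι R M N : Type*} [CommRing R] [IsDomain R] [CharZero R]
  [AddCommGroup M] [Module R M] [AddCommGroup N] [Module R N]
  {P : RootPairing ι R M N} [Fintype ι] [P.IsCrystallographic] [P.IsReduced] {Δ : Set ι} (hΔ : Simple P Δ)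

include hΔ in
/-- Right multiplication by a descent shortens. -/
theorem Simple.ncard_inv_mul_lt {u : P.Aut} (hu : u ∈ P.weylGroup) {a : ι} (ha : a ∈ Δ)
    (hneg : u • a ∉ posOf P Δ) :
    (inv' P Δ (u * RootPairing.Equiv.reflection P a)).ncard < (inv' P Δ u).ncard := by
  have hsa : (RootPairing.Equiv.reflection P a)⁻¹ = RootPairing.Equiv.reflection P a :=
    inv_eq_of_mul_eq_one_left (refl_mul_self a)
  let c := u • P.reflectionPerm a a
  have hc : c ∈ posOf P Δ := by
    show u • P.reflectionPerm a a ∈ _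
    rw [smul_neg_idx, hΔ.neg_mem_posOf_iff]
    exact hneg
  have h := hΔ.ncard_inv_lt (g := u * RootPairing.Equiv.reflection P a)
    (mul_mem hu (P.reflection_mem_weylGroup a)) hc (by
      show (u * RootPairing.Equiv.reflection P a)⁻¹ • u • P.reflectionPerm a a ∈ _
      rw [mul_inv_rev, hsa, mul_smul, inv_smul_smul, refl_smul_idx, P.reflectionPerm_self]
      exact hΔ.subset_posOf ha)
  have hr : RootPairing.Equiv.reflection P c = RootPairing.Equiv.reflection P (u • a) :=
    refl_eq_of_zsmul (c := -1) (by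
      show P.root (u • a) = (-1 : ℤ) • P.root (u • P.reflectionPerm a a)
      rw [smul_neg_idx, root_neg]; simp)
  rwa [hr, ← conj_refl, ← mul_assoc (u * _ * u⁻¹) u, inv_mul_cancel_right, mul_assoc, refl_mul_self, mul_one] at h

include hΔ in
theorem Simple.co_gen_supp {Δ' : Set ι} (hsub : Δ' ⊆ Δ) {k : ι} (hk : ∀ x, x ∉ Δ' → hΔ.co k x = 0)
    {v : P.Aut} (hv : v ∈ gen P Δ') : ∀ x, x ∉ Δ' → hΔ.co (v • k) x = 0 := by
  classical
  obtain ⟨l, hl, rfl⟩ := exists_word hv
  clear hv
  induction l with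
  | nil => simpa [word] using hk
  | cons a t ih =>
    intro x hx
    rw [word_cons, mul_smul, refl_smul_idx]
    have h := hΔ.co_smul_refl 1 a (word P t • k)
    rw [one_smul, one_smul, one_smul] at h
    have ha : a ∈ Δ' := hl a List.mem_cons_self
    rw [h, Pi.sub_apply, Pi.smul_apply, ih (fun y hy => hl y (List.mem_cons_of_mem _ hy)) x hx,
      hΔ.co_simple (hsub ha), Pi.single_eq_of_ne (fun e => hx (by rwa [e])), smul_zero, sub_zero]

include hΔ in
theorem Simple.pair_case {a c k : ι} (ha : a ∈ Δ) (hc : c ∈ Δ) (hac : a ≠ c)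
    (hk : ∀ x, x ∉ ({a, c} : Set ι) → hΔ.co k x = 0) {u : P.Aut} (hua : u • a ∈ posOf P Δ)
    (huc : u • c ∈ posOf P Δ) (huk : u • k ∈ Δ) : k = a ∨ k = c := by
  classical
  set p := hΔ.co k a with hp
  set q := hΔ.co k c with hq
  have hco : hΔ.co k = p • hΔ.co a + q • hΔ.co c := by
    funext x
    rw [hΔ.co_simple ha, hΔ.co_simple hc]
    by_cases hxa : x = a
    · subst hxa; simp [hac, hp]
    by_cases hxc : x = c
    · subst hxc; simp [hxa, hq]
    simp [hxa, hxc, hk x (by simp [hxa, hxc])]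
  have hroot : P.root k = p • P.root a + q • P.root c := by
    rw [← hΔ.co_spec k, hco, comb_add, comb_smul, comb_smul, hΔ.co_spec, hΔ.co_spec]
  have hco' : hΔ.co (u • k) = p • hΔ.co (u • a) + q • hΔ.co (u • c) :=
    hΔ.co_unique (fun x hx => by simp [hΔ.co_supp hx]) (by
      rw [comb_add, comb_smul, comb_smul, hΔ.co_spec, hΔ.co_spec, smul_root, smul_root, smul_root, hroot,
        smul_add, smul_comm p u, smul_comm q u])
  have hht : 1 = p * hΔ.ht (u • a) + q * hΔ.ht (u • c) := by
    rw [← hΔ.ht_simple huk]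
    simp [Simple.ht, hco', Finset.sum_add_distrib, Finset.mul_sum]
  have hA := hΔ.ht_pos hua
  have hC := hΔ.ht_pos huc
  rcases hΔ.co_sign k with hs | hs
  · have hp0 : 0 ≤ p := hs a
    have hq0 : 0 ≤ q := hs c
    rcases hp0.eq_or_lt with h | h
    · right
      have hq1 : q = 1 := by
        rw [← h] at hht
        exact Int.eq_one_of_mul_eq_one_right hq0 (by linarith)
      exact P.root.injective (by rw [hroot, ← h, hq1]; simp)
    · left
      have h1 : 0 ≤ q * hΔ.ht (u • c) := mul_nonneg hq0 hC.le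
      have hp1 : p = 1 := by nlinarith
      have hq1 : q = 0 := by nlinarith
      exact P.root.injective (by rw [hroot, hp1, hq1]; simp)
  · have h1 := hs a
    have h2 := hs c
    nlinarith [mul_nonpos_of_nonpos_of_nonneg h1 hA.le, mul_nonpos_of_nonpos_of_nonneg h2 hC.le]

include hΔ in
/-- The decomposition of an element carrying a simple root to a simple root. -/
theorem Simple.tits (n : ℕ) : ∀ (w : P.Aut), w ∈ P.weylGroup → (inv' P Δ w).ncard ≤ n →
    ∀ a b : ι, a ∈ Δ → b ∈ Δ → w • a = b →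
    ∃ (m : ℕ) (r : Fin (m + 1) → ι) (ws : Fin m → P.Aut),
      (∀ i, r i ∈ Δ) ∧ r 0 = a ∧ r (Fin.last m) = b ∧
      (∀ i, ws i ∈ P.weylGroup) ∧
      w = (List.ofFn fun i : Fin m => ws (Fin.rev i)).prod ∧
      (∀ i : Fin m, ws i • r (Fin.castSucc i) = r (Fin.succ i)) ∧
      ∀ i : Fin m, ∃ γ ∈ Δ,
        ws i ∈ Subgroup.closure {RootPairing.Equiv.reflection P (r (Fin.castSucc i)), RootPairing.Equiv.reflection P γ} ∧
        (r (Fin.castSucc i) ≠ r (Fin.succ i) → γ = r (Fin.succ i)) := by
  classical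
  induction n using Nat.strong_induction_on with
  | _ n IH =>
    intro w hw hn a b ha hb hab
    by_cases hpos : ∀ i ∈ Δ, w • i ∈ posOf P Δ
    · have hw1 := hΔ.eq_one_of_pos hw hpos
      subst hw1
      rw [one_smul] at hab
      subst hab
      exact ⟨0, fun _ => a, Fin.elim0, fun _ => ha, rfl, rfl, fun i => i.elim0, by simp, fun i => i.elim0,
        fun i => i.elim0⟩
    push Not at hpos
    obtain ⟨c, hc, hwc⟩ := hpos
    have hac : a ≠ c := by
      rintro rfl
      exact hwc (hab ▸ hΔ.subset_posOf hb)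
    have hsub : ({a, c} : Set ι) ⊆ Δ := by
      rintro x (rfl | rfl)
      exacts [ha, hc]
    have hex : ∃ k, ∃ v ∈ gen P ({a, c} : Set ι), (inv' P Δ (w * v⁻¹)).ncard = k := ⟨_, 1, one_mem _, rfl⟩
    obtain ⟨v, hv, hvk⟩ := Nat.find_spec hex
    have hmin : ∀ v' ∈ gen P ({a, c} : Set ι), (inv' P Δ (w * v⁻¹)).ncard ≤ (inv' P Δ (w * v'⁻¹)).ncard :=
      fun v' hv' => hvk ▸ Nat.find_min' hex ⟨v', hv', rfl⟩
    set u := w * v⁻¹ with hu
    have huW : u ∈ P.weylGroup := mul_mem hw (inv_mem (gen_le _ hv))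
    have hupos : ∀ x ∈ ({a, c} : Set ι), u • x ∈ posOf P Δ := by
      intro x hx
      by_contra hneg
      have h1 := hΔ.ncard_inv_mul_lt huW (hsub hx) hneg
      have h2 := hmin (RootPairing.Equiv.reflection P x * v) (mul_mem (refl_mem_gen hx) hv)
      rw [mul_inv_rev, inv_eq_of_mul_eq_one_left (refl_mul_self x), ← mul_assoc, ← hu] at h2
      omega
    have hlt : (inv' P Δ u).ncard < (inv' P Δ w).ncard := by
      refine lt_of_le_of_lt ?_ (hΔ.ncard_inv_mul_lt hw hc hwc)
      have h2 := hmin (RootPairing.Equiv.reflection P c) (refl_mem_gen (Or.inr rfl))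
      rwa [inv_eq_of_mul_eq_one_left (refl_mul_self c)] at h2
    have huv : u • v • a = b := by rw [← mul_smul, hu, inv_mul_cancel_right, hab]
    have hsupp : ∀ x, x ∉ ({a, c} : Set ι) → hΔ.co a x = 0 := fun x hx => by
      rw [hΔ.co_simple ha, Pi.single_eq_of_ne (fun e => hx (Or.inl e))]
    have hcase := hΔ.pair_case ha hc hac (hΔ.co_gen_supp hsub hsupp hv) (hupos a (Or.inl rfl))
      (hupos c (Or.inr rfl)) (huv ▸ hb)
    have ha' : v • a ∈ Δ := by rcases hcase with h | h <;> rw [h] <;> assumption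
    obtain ⟨m, r, ws, hr, hr0, hrl, hws, hprod, hstep, hcl⟩ :=
      IH _ (lt_of_lt_of_le hlt hn) u huW le_rfl (v • a) b ha' hb huv
    refine ⟨m + 1, Fin.cons a r, Fin.cons v ws, Fin.cases ha hr, rfl, ?_, Fin.cases (gen_le _ hv) hws, ?_, ?_, ?_⟩
    · rw [← Fin.succ_last, Fin.cons_succ, hrl]
    · rw [List.ofFn_succ', List.concat_eq_append, List.prod_append, List.prod_singleton,
        Fin.rev_last, Fin.cons_zero]
      simp only [Fin.rev_castSucc, Fin.cons_succ, ← hprod]
      rw [hu, inv_mul_cancel_right]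
    · refine Fin.cases ?_ fun i => ?_
      · rw [Fin.castSucc_zero, Fin.cons_zero, Fin.cons_succ, hr0]; rfl
      · rw [Fin.castSucc_succ, Fin.cons_succ, Fin.cons_succ, Fin.cons_succ]
        exact hstep i
    · refine Fin.cases ?_ fun i => ?_
      · refine ⟨c, hc, ?_, fun hne => ?_⟩
        · rw [Fin.castSucc_zero, Fin.cons_zero, Fin.cons_zero]
          have h2 := hv
          rw [gen, Set.image_pair] at h2
          exact h2
        · rw [Fin.castSucc_zero, Fin.cons_zero, Fin.cons_succ, hr0] at hne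
          rw [Fin.cons_succ, hr0]
          exact (hcase.resolve_left fun h => hne h.symm).symm
      · simp only [Fin.castSucc_succ, Fin.cons_succ]
        exact hcl i

end Groth.Agent.RootData
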